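import Groth.Agent.DegDevLib.Det
import Groth.Agent.AmpleLib.Extend
import Groth.Agent.InvExt.Main
import Groth.Agent.OmegaUnivLib.Compat
import Groth.Prelude.Def_ExtPow2
import Mathlib.LinearAlgebra.Matrix.Kronecker
import Mathlib.LinearAlgebra.TensorProduct.Basis

/-!
The determinant of a tensor product of two vector bundles.
-/

set_option autoImplicit false
set_option backward.isDefEq.respectTransparency false
set_option linter.style.haveILetI false

universe u

open CategoryTheory CategoryTheory.Limits AlgebraicGeometry TopologicalSpace Opposite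
open Groth.Agent.PullbackMod Groth.Agent.DCohLib Groth.Agent.ParaFLib Groth.Agent.AmpleLib Groth.Agent.DegDevLib
open scoped Kronecker TensorProduct

noncomputable section

namespace Groth.Agent.DetTensorLib

variable {X : Scheme.{u}}

/-- Linear maps on the members of a basis of affine opens glue. -/
theorem exists_hom_of_basis {M N : X.Modules} (P : X.affineOpens → Prop)
    (hP : ∀ (O : X.Opens) (x : X), x ∈ O → ∃ U : X.affineOpens, x ∈ U.1 ∧ U.1 ≤ O ∧ P U)
    (h : ∀ U : X.affineOpens, P U → (Γ(M, U.1) →ₗ[Γ(X, U.1)] Γ(N, U.1)))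
    (hres : ∀ (V W : X.affineOpens) (hV : P V) (hW : P W) (hVW : V.1 ≤ W.1) (t : Γ(M, W.1)),
      h V hV (M.presheaf.map (homOfLE hVW).op t) = N.presheaf.map (homOfLE hVW).op (h W hW t)) :
    ∃ φ : M ⟶ N, ∀ (U : X.affineOpens) (hU : P U) (t : Γ(M, U.1)), φ.app U.1 t = h U hU t := by
  have hbasis : Opens.IsBasis (Set.range fun U : {U : X.affineOpens // P U} => U.1.1) := by
    rw [Opens.isBasis_iff_nbhd]
    intro O x hx
    obtain ⟨U, hxU, hle, hU⟩ := hP O x hx
    exact ⟨U.1, ⟨⟨U, hU⟩, rfl⟩, hxU, hle⟩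
  let Ns : TopCat.Sheaf Ab X := ⟨N.presheaf, N.isSheaf⟩
  have hloc : ∀ (O : X.Opens) (a b : Γ(N, O)), (∀ U : {U : X.affineOpens // P U}, ∀ hU : U.1.1 ≤ O,
      N.presheaf.map (homOfLE hU).op a = N.presheaf.map (homOfLE hU).op b) → a = b := by
    intro O a b h'
    refine Ns.eq_of_locally_eq' (fun U : {U : {U : X.affineOpens // P U} // U.1.1 ≤ O} => U.1.1.1) O
      (fun U => homOfLE U.2) (fun x hx => ?_) _ _ fun U => h' U.1 U.2
    obtain ⟨U, hxU, hle, hU⟩ := hP O x hx
    exact Opens.mem_iSup.2 ⟨⟨⟨U, hU⟩, hle⟩, hxU⟩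
  let nat : (inducedFunctor fun U : {U : X.affineOpens // P U} => U.1.1).op ⋙ M.presheaf ⟶
      (inducedFunctor fun U : {U : X.affineOpens // P U} => U.1.1).op ⋙ N.presheaf :=
    { app := fun U => AddCommGrpCat.ofHom (h U.unop.1 U.unop.2).toAddMonoidHom
      naturality := fun W V i => by
        ext t
        exact hres V.unop.1 W.unop.1 V.unop.2 W.unop.2 i.unop.hom.le t }
  let g : M.presheaf ⟶ N.presheaf := TopCat.Sheaf.restrictHomEquivHom M.presheaf Ns hbasis nat
  have hg : ∀ (U : {U : X.affineOpens // P U}) (t : Γ(M, U.1.1)), g.app (op U.1.1) t = h U.1 U.2 t := fun U t =>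
    ConcreteCategory.congr_hom (TopCat.Sheaf.extend_hom_app M.presheaf Ns hbasis nat U) t
  refine ⟨⟨PresheafOfModules.homMk g fun U r t => ?_⟩, fun U hU t => hg ⟨U, hU⟩ t⟩
  change Γ(M, U.unop) at t
  change Γ(X, U.unop) at r
  show g.app (op U.unop) (r • t) = r • g.app (op U.unop) t
  refine hloc U.unop _ _ fun W hW => ?_
  rw [Scheme.Modules.map_smul, ← NatTrans.naturality_apply g (homOfLE hW).op,
    ← NatTrans.naturality_apply g (homOfLE hW).op, Scheme.Modules.map_smul, hg, hg, map_smul]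

variable {E F : X.Modules} {e f : ℕ}

/-- The frame of a tensor product. -/
def tframe {U : X.Opens} (s : Fin e → Γ(E, U)) (t : Fin f → Γ(F, U)) : Fin (e * f) → Γ(tmod E F, U) :=
  fun k => pairS E F (s (finProdFinEquiv.symm k).1) (t (finProdFinEquiv.symm k).2)

theorem isFrame_tframe {U : X.Opens} {s : Fin e → Γ(E, U)} {t : Fin f → Γ(F, U)} (hs : IsFrame U s)
    (ht : IsFrame U t) : IsFrame (E := tmod E F) U (tframe s t) := fun y hy => by
  classical
  let bs : Module.Basis (Fin e) (X.presheaf.stalk y) (E.presheaf.stalk y) :=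
    Module.Basis.ofEquivFun (LinearEquiv.ofBijective _ (hs y hy)).symm
  let bt : Module.Basis (Fin f) (X.presheaf.stalk y) (F.presheaf.stalk y) :=
    Module.Basis.ofEquivFun (LinearEquiv.ofBijective _ (ht y hy)).symm
  have hbs : ∀ i, bs i = E.presheaf.germ U y hy (s i) := fun i => by
    simp [bs, Fintype.linearCombination_apply_single]
  have hbt : ∀ i, bt i = F.presheaf.germ U y hy (t i) := fun i => by
    simp [bt, Fintype.linearCombination_apply_single]
  let B : Module.Basis (Fin (e * f)) (X.presheaf.stalk y) ((tmod E F).presheaf.stalk y) :=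
    ((bs.tensorProduct bt).reindex finProdFinEquiv).map (stalkTensor y E F)
  have hB : ∀ k, B k = (tmod E F).presheaf.germ U y hy (tframe s t k) := fun k => by
    rw [tframe, germ_pairS]
    simp only [B, Module.Basis.map_apply, Module.Basis.reindex_apply, Module.Basis.tensorProduct_apply', hbs, hbt]
  have hlc : (Fintype.linearCombination (X.presheaf.stalk y) fun k => (tmod E F).presheaf.germ U y hy (tframe s t k)) =
      B.equivFun.symm.toLinearMap := by
    refine LinearMap.ext fun c => ?_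
    rw [LinearEquiv.coe_coe, Module.Basis.equivFun_symm_apply, Fintype.linearCombination_apply]
    simp only [hB]
  rw [hlc]
  exact B.equivFun.symm.bijective

theorem exists_matrix {n : ℕ} {M : X.Modules} {U : X.Opens} {s : Fin n → Γ(M, U)} (hs : IsFrame U s)
    (s' : Fin n → Γ(M, U)) : ∃ A : Matrix (Fin n) (Fin n) Γ(X, U), ∀ i, s' i = ∑ j, A i j • s j := by
  choose c hc using fun i => hs.bijective.2 (s' i)
  exact ⟨Matrix.of c, fun i => by rw [← hc i, Fintype.linearCombination_apply]; rfl⟩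

theorem tframe_change {U : X.Opens} (s : Fin e → Γ(E, U)) (t : Fin f → Γ(F, U))
    (A : Matrix (Fin e) (Fin e) Γ(X, U)) (B : Matrix (Fin f) (Fin f) Γ(X, U)) :
    tframe (fun i => ∑ j, A i j • s j) (fun i => ∑ j, B i j • t j) = fun k => ∑ l,
      ((A ⊗ₖ B).submatrix finProdFinEquiv.symm finProdFinEquiv.symm) k l • tframe s t l := by
  classical
  funext k
  rw [tframe, pairS_sum_left]
  refine Eq.trans (Finset.sum_congr rfl fun i _ => congrArg (A _ i • ·)
    (?_ : _ = ∑ j, B (finProdFinEquiv.symm k).2 j • pairS E F (s i) (t j))) ?_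
  · let Q : Γ(F, U) →+ Γ(tmod E F, U) := AddMonoidHom.mk' (fun v => pairS E F (s i) v) fun v w =>
      pairS_add_right' (s i) v w
    show Q (∑ j, B _ j • t j) = _
    rw [map_sum]
    exact Finset.sum_congr rfl fun j _ => pairS_smul_right _ _ _
  · rw [← Equiv.sum_comp finProdFinEquiv, Fintype.sum_prod_type]
    refine Finset.sum_congr rfl fun i _ => ?_
    rw [Finset.smul_sum]
    refine Finset.sum_congr rfl fun j _ => ?_
    rw [smul_smul]
    simp [tframe, Matrix.kroneckerMap_apply]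
where
  pairS_add_right' {U : X.Opens} (m : Γ(E, U)) (v w : Γ(F, U)) :
      pairS E F m (v + w) = pairS E F m v + pairS E F m w := by
    refine TopCat.Presheaf.section_ext (⟨(tmod E F).presheaf, (tmod E F).isSheaf⟩ : TopCat.Sheaf Ab X) U _ _ fun y hy => ?_
    show (tmod E F).presheaf.germ U y hy _ = (tmod E F).presheaf.germ U y hy _
    rw [map_add, germ_pairS, germ_pairS, germ_pairS, map_add, TensorProduct.tmul_add, map_add]

/-- The determinant of a tensor product is the product of the powers of the determinants. -/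
theorem nonempty_iso (hE : FlatMod.IsFinLocFreeOfRank e E) (hF : FlatMod.IsFinLocFreeOfRank f F)
    (DE DF D : X.Modules) (hDE : ExtPow.IsExtPow e E DE) (hDF : ExtPow.IsExtPow f F DF)
    (hD : ExtPow.IsExtPow (e * f) (tmod E F) D) :
    Nonempty (D ≅ tmod (CohB1.tensorPow DE f) (CohB1.tensorPow DF e)) := by
  classical
  obtain ⟨φE, hφE⟩ := hDE
  obtain ⟨φF, hφF⟩ := hDF
  obtain ⟨φ, hφ⟩ := hD
  let T := tmod (CohB1.tensorPow DE f) (CohB1.tensorPow DF e)
  let P : X.affineOpens → Prop := fun U =>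
    ∃ (s : Fin e → Γ(E, U.1)) (t : Fin f → Γ(F, U.1)), IsFrame U.1 s ∧ IsFrame U.1 t
  have hP : ∀ (O : X.Opens) (x : X), x ∈ O → ∃ U : X.affineOpens, x ∈ U.1 ∧ U.1 ≤ O ∧ P U := by
    intro O x hx
    obtain ⟨_, ⟨V, hV, rfl⟩, hxV, hVO⟩ := X.isBasis_affineOpens.exists_subset_of_mem_open hx O.2
    obtain ⟨U, s, hxU, hUV, hs⟩ := exists_frame hE (Set.finite_singleton x) hV (Set.singleton_subset_iff.2 hxV)
    obtain ⟨U', t, hxU', -, ht⟩ := exists_frame hF (Set.finite_singleton x) hV (Set.singleton_subset_iff.2 hxV)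
    obtain ⟨_, ⟨W, hW, rfl⟩, hxW, hWU⟩ := X.isBasis_affineOpens.exists_subset_of_mem_open
      (show x ∈ U ⊓ U' from ⟨hxU rfl, hxU' rfl⟩) (U ⊓ U').2
    have hW1 : W ≤ U ⊓ U' := hWU
    exact ⟨⟨W, hW⟩, hxW, (hW1.trans (inf_le_left.trans hUV)).trans hVO, _, _,
      hs.res (hW1.trans inf_le_left), ht.res (hW1.trans inf_le_right)⟩
  let src : ∀ (U : X.affineOpens), (Fin e → Γ(E, U.1)) → (Fin f → Γ(F, U.1)) → Γ(D, U.1) :=
    fun U s t => wsec φ U (tframe s t)
  let tgt : ∀ (U : X.affineOpens), (Fin e → Γ(E, U.1)) → (Fin f → Γ(F, U.1)) → Γ(T, U.1) :=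
    fun U s t => pairS _ _ (powLoc (wsec φE U s) f) (powLoc (wsec φF U t) e)
  have hgen : ∀ (U : X.affineOpens) s t, IsFrame U.1 s → IsFrame U.1 t → Gen U.1 (tgt U s t) :=
    fun U s t hs ht => gen_pairS (gen_powLoc (gen_wsec φE hφE hs) f) (gen_powLoc (gen_wsec φF hφF ht) e)
  let b : ∀ (U : X.affineOpens) (s : Fin e → Γ(E, U.1)) (t : Fin f → Γ(F, U.1)), IsFrame U.1 s → IsFrame U.1 t →
      Γ(X, U.1) ≃ₗ[Γ(X, U.1)] Γ(D, U.1) := fun U s t hs ht =>
    LinearEquiv.ofBijective (LinearMap.toSpanSingleton Γ(X, U.1) Γ(D, U.1) (src U s t))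
      ⟨fun r r' h => wsec_injective φ (isFrame_tframe hs ht) h,
        fun z => wsec_span φ (isFrame_tframe hs ht) z⟩
  let H : ∀ U : X.affineOpens, P U → (Γ(D, U.1) →ₗ[Γ(X, U.1)] Γ(T, U.1)) := fun U hU =>
    (LinearMap.toSpanSingleton Γ(X, U.1) Γ(T, U.1) (tgt U hU.choose hU.choose_spec.choose)).comp
      (b U _ _ hU.choose_spec.choose_spec.1 hU.choose_spec.choose_spec.2).symm.toLinearMap
  have key : ∀ (U : X.affineOpens) (hU : P U) s t, IsFrame U.1 s → IsFrame U.1 t →
      H U hU (src U s t) = tgt U s t := by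
    intro U hU s t hs ht
    have hs₀ := hU.choose_spec.choose_spec.1
    have ht₀ := hU.choose_spec.choose_spec.2
    obtain ⟨A, hA⟩ := exists_matrix hs₀ s
    obtain ⟨B, hB⟩ := exists_matrix ht₀ t
    obtain rfl : s = fun i => ∑ j, A i j • hU.choose j := funext hA
    obtain rfl : t = fun i => ∑ j, B i j • hU.choose_spec.choose j := funext hB
    have h1 : src U (fun i => ∑ j, A i j • hU.choose j) (fun i => ∑ j, B i j • hU.choose_spec.choose j) =
        (A.det ^ f * B.det ^ e) • src U hU.choose hU.choose_spec.choose := by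
      simp only [src]
      rw [tframe_change, wsec_smul φ (isFrame_tframe hs₀ ht₀), Matrix.det_submatrix_equiv_self,
        Matrix.det_kronecker, Fintype.card_fin, Fintype.card_fin]
    rw [h1]
    have h2 : (b U _ _ hs₀ ht₀).symm ((A.det ^ f * B.det ^ e) • src U hU.choose hU.choose_spec.choose) =
        A.det ^ f * B.det ^ e := (LinearEquiv.symm_apply_eq _).2 rfl
    show (b U _ _ hs₀ ht₀).symm _ • tgt U _ _ = _
    rw [h2]
    simp only [tgt]
    rw [wsec_smul φE hs₀, wsec_smul φF ht₀, powLoc_smul, powLoc_smul, pairS_smul_left, pairS_smul_right, smul_smul]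
  obtain ⟨ψ, hψ⟩ := exists_hom_of_basis P hP H (by
    intro V W hV hW hVW z
    obtain ⟨r, rfl⟩ := (b W _ _ hW.choose_spec.choose_spec.1 hW.choose_spec.choose_spec.2).surjective z
    show H V hV (D.presheaf.map _ (r • src W _ _)) = T.presheaf.map _ (H W hW (r • src W _ _))
    rw [map_smul (H W hW), Scheme.Modules.map_smul, Scheme.Modules.map_smul, map_smul,
      key W hW _ _ hW.choose_spec.choose_spec.1 hW.choose_spec.choose_spec.2]
    refine congrArg (_ • ·) ?_
    have e1 : D.presheaf.map (homOfLE hVW).op (src W hW.choose hW.choose_spec.choose) =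
        src V (fun i => E.presheaf.map (homOfLE hVW).op (hW.choose i))
          (fun i => F.presheaf.map (homOfLE hVW).op (hW.choose_spec.choose i)) :=
      (hφ W V hVW _).trans (congrArg (wsec φ V) (funext fun k => res_pairS hVW _ _))
    rw [e1, key V hV _ _ (hW.choose_spec.choose_spec.1.res hVW) (hW.choose_spec.choose_spec.2.res hVW)]
    simp only [tgt]
    rw [res_pairS, powLoc_res, powLoc_res]
    exact congrArg₂ (pairS _ _) (congrArg (powLoc · f) (hφE W V hVW _).symm) (congrArg (powLoc · e) (hφF W V hVW _).symm))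
  have hDinv : PicF.IsInvertible D := isInvertible_of_gen fun x => by
    obtain ⟨U, hxU, -, s, t, hs, ht⟩ := hP ⊤ x trivial
    exact ⟨U.1, _, hxU, gen_wsec φ hφ (isFrame_tframe hs ht)⟩
  have hTinv : PicF.IsInvertible T := isInvertible_of_gen fun x => by
    obtain ⟨U, hxU, -, s, t, hs, ht⟩ := hP ⊤ x trivial
    exact ⟨U.1, _, hxU, hgen U s t hs ht⟩
  haveI := InvExt.isQCoh_of_isInvertible hDinv
  haveI := InvExt.isQCoh_of_isInvertible hTinv
  haveI : IsIso ψ := by
    refine OmegaUnivLib.isIso_of_bijective_cover ψ fun x => ?_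
    obtain ⟨U, hxU, -, hU⟩ := hP ⊤ x trivial
    refine ⟨U.1, U.2, hxU, ?_⟩
    rw [show ⇑(ψ.app U.1) = ⇑(H U hU) from funext (hψ U hU)]
    have hg := hgen U _ _ hU.choose_spec.choose_spec.1 hU.choose_spec.choose_spec.2 U.1 le_rfl
    show Function.Bijective ((fun r : Γ(X, U.1) => r • tgt U hU.choose hU.choose_spec.choose) ∘
      (b U _ _ hU.choose_spec.choose_spec.1 hU.choose_spec.choose_spec.2).symm)
    refine Function.Bijective.comp ?_ (LinearEquiv.bijective _)
    simpa [show homOfLE (le_refl U.1) = 𝟙 _ from rfl] using hg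
  exact ⟨asIso ψ⟩

end Groth.Agent.DetTensorLib
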